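import Mathlib

/-!
Trace methods for `SL₂` over a finite field: the trace determines the class away from `±2`, orders of elements,
and companion coordinates.
-/

set_option autoImplicit false

namespace Cfsg.Agent.Lib.SL2Trace

open Matrix
open scoped MatrixGroups

variable {F : Type*} [Field F]

local notation "SL2" => Matrix.SpecialLinearGroup (Fin 2) F

/-- The trace of an element of `SL₂`. -/
def tr (A : SL2) : F := (A : Matrix (Fin 2) (Fin 2) F).trace

theorem tr_eq (A : SL2) : tr A = A 0 0 + A 1 1 := Matrix.trace_fin_two _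

theorem det_eq (A : SL2) : A 0 0 * A 1 1 - A 0 1 * A 1 0 = 1 := by
  rw [← Matrix.det_fin_two]; exact A.2

theorem sq_eq (A : SL2) : (A : Matrix (Fin 2) (Fin 2) F) * A = tr A • (A : Matrix (Fin 2) (Fin 2) F) - 1 := by
  have h := det_eq A
  ext i j
  fin_cases i <;> fin_cases j <;> simp [Matrix.mul_apply, Fin.sum_univ_two, tr_eq] <;>
    first | ring1 | linear_combination -h | linear_combination h

theorem tr_mul_comm (A B : SL2) : tr (A * B) = tr (B * A) := by
  simp only [tr, Matrix.SpecialLinearGroup.coe_mul]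
  exact Matrix.trace_mul_comm _ _

theorem tr_conj (A B : SL2) : tr (B * A * B⁻¹) = tr A := by
  rw [tr_mul_comm, ← mul_assoc, inv_mul_cancel, one_mul]

theorem tr_eq_of_isConj {A B : SL2} (h : IsConj A B) : tr A = tr B := by
  obtain ⟨C, hC⟩ := isConj_iff.mp h
  rw [← hC, tr_conj]

theorem tr_neg (A : SL2) : tr (-A) = - tr A := by simp [tr]

theorem tr_inv (A : SL2) : tr A⁻¹ = tr A := by
  simp only [tr_eq, Matrix.SpecialLinearGroup.coe_inv, Matrix.adjugate_fin_two]
  simp [add_comm]

theorem mem_center_iff {Z : SL2} : Z ∈ Subgroup.center SL2 ↔ Z = 1 ∨ Z = -1 := by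
  rw [Matrix.SpecialLinearGroup.mem_center_iff]
  constructor
  · rintro ⟨r, hr, hZ⟩
    rw [Fintype.card_fin, sq] at hr
    rcases mul_self_eq_one_iff.mp hr with rfl | rfl
    · left
      refine Subtype.ext (hZ.symm.trans ?_)
      ext i j; fin_cases i <;> fin_cases j <;> simp
    · right
      refine Subtype.ext (hZ.symm.trans ?_)
      ext i j; fin_cases i <;> fin_cases j <;> simp
  · rintro (rfl | rfl)
    · exact ⟨1, by simp, by simp⟩
    · exact ⟨-1, by simp, by ext i j; fin_cases i <;> fin_cases j <;> simp⟩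

/-- The projection to `PSL₂`. -/
def toPSL : SL2 →* Matrix.ProjectiveSpecialLinearGroup (Fin 2) F := QuotientGroup.mk' _

theorem toPSL_surjective : Function.Surjective (toPSL (F := F)) := QuotientGroup.mk'_surjective _

theorem toPSL_eq_one {A : SL2} : toPSL A = 1 ↔ A = 1 ∨ A = -1 :=
  (QuotientGroup.eq_one_iff A).trans mem_center_iff

theorem toPSL_eq {A B : SL2} : toPSL A = toPSL B ↔ B = A ∨ B = -A := by
  rw [show toPSL A = toPSL B ↔ A⁻¹ * B ∈ Subgroup.center SL2 from QuotientGroup.eq, mem_center_iff]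
  rw [inv_mul_eq_iff_eq_mul, inv_mul_eq_iff_eq_mul, mul_one, mul_neg, mul_one]

theorem toPSL_neg (A : SL2) : toPSL (-A) = toPSL A := (toPSL_eq.mpr (Or.inr rfl)).symm

theorem isConj_toPSL {A B : SL2} (h : IsConj A B) : IsConj (toPSL A) (toPSL B) := toPSL.map_isConj h

theorem tr_pm_of_toPSL_eq {A B : SL2} (h : toPSL A = toPSL B) : tr B = tr A ∨ tr B = - tr A := by
  rcases toPSL_eq.mp h with rfl | rfl
  · exact Or.inl rfl
  · exact Or.inr (tr_neg A)

theorem eq_scalar_of_entries {A : SL2} (h10 : A 1 0 = 0) (h01 : A 0 1 = 0) (h : A 0 0 = A 1 1) : A = 1 ∨ A = -1 := by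
  have hd := det_eq A
  rw [h10, h01, ← h, mul_zero, sub_zero] at hd
  rcases mul_self_eq_one_iff.mp hd with h1 | h1
  · left; ext i j; fin_cases i <;> fin_cases j <;> simp [h10, h01, ← h, h1]
  · right; ext i j; fin_cases i <;> fin_cases j <;> simp [h10, h01, ← h, h1]

/-- The companion matrix of `X² - γ X + 1`. -/
def comp (γ : F) : SL2 := ⟨!![0, -1; 1, γ], by simp [Matrix.det_fin_two]⟩

theorem tr_comp (γ : F) : tr (comp γ) = γ := by rw [tr_eq]; simp [comp]

/-- `A` is conjugate under `GL₂` to a companion matrix, through the columns `v`, `A v`. -/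
theorem companion_eq (A : SL2) (v : Fin 2 → F) :
    (A : Matrix (Fin 2) (Fin 2) F) * !![v 0, A 0 0 * v 0 + A 0 1 * v 1; v 1, A 1 0 * v 0 + A 1 1 * v 1] =
      !![v 0, A 0 0 * v 0 + A 0 1 * v 1; v 1, A 1 0 * v 0 + A 1 1 * v 1] * (comp (tr A) : Matrix (Fin 2) (Fin 2) F) := by
  have h := det_eq A
  ext i j
  fin_cases i <;> fin_cases j <;> simp [Matrix.mul_apply, Fin.sum_univ_two, tr_eq, comp]
  · linear_combination -v 0 * h
  · linear_combination -v 1 * h

variable [Fintype F]

theorem exists_binary_eq_one (a l b : F) (h : l ^ 2 + 4 * a * b ≠ 0) :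
    ∃ x y : F, a * x ^ 2 + l * x * y - b * y ^ 2 = 1 := by
  by_cases ha : a = 0
  · subst ha
    have hl : l ≠ 0 := by intro hl; exact h (by simp [hl])
    exact ⟨(1 + b) / l, 1, by field_simp; ring⟩
  by_cases h2 : ringChar F = 2
  · obtain ⟨r, hr⟩ := FiniteField.isSquare_of_char_two h2 a⁻¹
    exact ⟨r, 0, by rw [sq r, ← hr]; field_simp; ring⟩
  · have h2' : (2 : F) ≠ 0 := Ring.two_ne_zero h2
    have h4 : (4 : F) ≠ 0 := by rw [show (4 : F) = 2 * 2 by norm_num]; exact mul_ne_zero h2' h2'
    set k := (l ^ 2 + 4 * a * b) / (4 * a)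
    have hk : k ≠ 0 := div_ne_zero h (mul_ne_zero h4 ha)
    obtain ⟨s, y, hsy⟩ := FiniteField.exists_root_sum_quadratic
      (f := Polynomial.C a * Polynomial.X ^ 2 + Polynomial.C 0 * Polynomial.X + Polynomial.C (-1))
      (g := Polynomial.C (-k) * Polynomial.X ^ 2 + Polynomial.C 0 * Polynomial.X + Polynomial.C 0)
      (Polynomial.degree_quadratic ha) (Polynomial.degree_quadratic (neg_ne_zero.mpr hk))
      (by rw [Nat.odd_iff.mp (Nat.odd_iff.mpr (FiniteField.odd_card_of_char_ne_two h2))])
    refine ⟨s - l * y / (2 * a), y, ?_⟩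
    simp only [Polynomial.eval_add, Polynomial.eval_mul, Polynomial.eval_C, Polynomial.eval_pow, Polynomial.eval_X] at hsy
    simp only [k] at hsy
    field_simp at hsy ⊢
    linear_combination hsy

theorem isConj_comp {A : SL2} (h : tr A ^ 2 ≠ 4) : IsConj (comp (tr A)) A := by
  obtain ⟨x, y, hxy⟩ := exists_binary_eq_one (A 1 0) (A 1 1 - A 0 0) (A 0 1) (by
    intro h0
    apply h
    have hd := det_eq A
    rw [tr_eq]
    linear_combination h0 + 4 * hd)
  let P : SL2 := ⟨!![x, A 0 0 * x + A 0 1 * y; y, A 1 0 * x + A 1 1 * y], by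
    rw [Matrix.det_fin_two]
    simp
    linear_combination hxy⟩
  refine isConj_iff.mpr ⟨P, ?_⟩
  rw [mul_inv_eq_iff_eq_mul]
  exact Subtype.ext (companion_eq A ![x, y]).symm

theorem isConj_of_tr_eq {A B : SL2} (h : tr A = tr B) (hA : tr A ^ 2 ≠ 4) : IsConj A B :=
  (isConj_comp hA).symm.trans (h ▸ isConj_comp (h ▸ hA))

theorem isConj_toPSL_of_tr {A B : SL2} (h : tr B = tr A ∨ tr B = - tr A) (hA : tr A ^ 2 ≠ 4) :
    IsConj (toPSL A) (toPSL B) := by
  rcases h with h | h
  · exact isConj_toPSL (isConj_of_tr_eq h.symm hA)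
  · rw [← toPSL_neg B]
    exact isConj_toPSL (isConj_of_tr_eq (by rw [tr_neg, h, neg_neg]) hA)

omit [Fintype F] in
/-- Elements with trace `±2` have `p`-th power `±1`. -/
theorem pow_char_of_tr (p : ℕ) [Fact p.Prime] [CharP F p] {A : SL2} (h : tr A ^ 2 = 4) :
    A ^ p = 1 ∨ A ^ p = -1 := by
  obtain ⟨ε, hε, hA⟩ : ∃ ε : F, ε * ε = 1 ∧ tr A = 2 * ε := by
    have : (tr A - 2) * (tr A + 2) = 0 := by linear_combination h
    rcases mul_eq_zero.mp this with h1 | h1
    · exact ⟨1, one_mul 1, by linear_combination h1⟩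
    · exact ⟨-1, by ring, by linear_combination h1⟩
  set M := (A : Matrix (Fin 2) (Fin 2) F)
  have hN : (M - ε • 1) * (M - ε • 1) = 0 := by
    rw [Matrix.sub_mul, Matrix.mul_sub, Matrix.mul_sub, sq_eq A, hA]
    simp [smul_smul, hε, two_mul, add_smul]
    abel
  have hp : 2 ≤ p := Nat.Prime.two_le Fact.out
  have h1 : (M - ε • 1) ^ p = 0 := by
    rw [show p = 2 + (p - 2) by omega, pow_add, sq, hN, zero_mul]
  rw [sub_pow_char_of_commute p ((Commute.one_right M).smul_right ε), smul_pow, one_pow, sub_eq_zero] at h1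
  have hpm : ε ^ p = ε := by
    rcases mul_self_eq_one_iff.mp hε with rfl | rfl
    · simp
    · exact neg_one_pow_char F p
  rw [hpm] at h1
  rcases mul_self_eq_one_iff.mp hε with rfl | rfl
  · exact Or.inl (Subtype.ext (by simpa [M] using h1))
  · exact Or.inr (Subtype.ext (by simpa [M] using h1))

/-- An element whose trace is not `±2` has order dividing `q - 1` or `q + 1`. -/
theorem pow_dichotomy {A : SL2} (h : tr A ^ 2 ≠ 4) :
    ((∃ r : F, r ^ 2 - tr A * r + 1 = 0) ∧ A ^ (Fintype.card F - 1) = 1) ∨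
      ((¬ ∃ r : F, r ^ 2 - tr A * r + 1 = 0) ∧ A ^ (Fintype.card F + 1) = 1) := by
  classical
  by_cases hr : ∃ r : F, r ^ 2 - tr A * r + 1 = 0
  · left
    obtain ⟨r, hr⟩ := hr
    refine ⟨⟨r, hr⟩, ?_⟩
    have hr0 : r ≠ 0 := by rintro rfl; simp at hr
    let D : SL2 := ⟨!![r, 0; 0, r⁻¹], by simp [Matrix.det_fin_two, hr0]⟩
    have hD : tr D = tr A := by
      simp [tr_eq D, D]
      field_simp
      linear_combination hr
    obtain ⟨C, hC⟩ := isConj_iff.mp (isConj_of_tr_eq hD (hD ▸ h))
    have hpow : ∀ k : ℕ, (D : Matrix (Fin 2) (Fin 2) F) ^ k = !![r ^ k, 0; 0, r⁻¹ ^ k] := by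
      intro k
      induction k with
      | zero => simp [Matrix.one_fin_two]
      | succ k ih =>
        rw [pow_succ, ih]
        ext i j
        fin_cases i <;> fin_cases j <;> simp [D, pow_succ, Matrix.mul_apply, Fin.sum_univ_two]
    have hDq : D ^ (Fintype.card F - 1) = 1 := Subtype.ext (by
      rw [Matrix.SpecialLinearGroup.coe_pow, hpow, FiniteField.pow_card_sub_one_eq_one r hr0,
        FiniteField.pow_card_sub_one_eq_one r⁻¹ (inv_ne_zero hr0), Matrix.SpecialLinearGroup.coe_one, Matrix.one_fin_two])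
    rw [← hC, conj_pow, hDq]
    simp
  · right
    refine ⟨hr, ?_⟩
    let f : Polynomial F := Polynomial.C 1 * Polynomial.X ^ 2 + Polynomial.C (- tr A) * Polynomial.X + Polynomial.C 1
    have hdeg : f.natDegree = 2 := Polynomial.natDegree_quadratic one_ne_zero
    have hf : Irreducible f := by
      rw [Polynomial.irreducible_iff_roots_eq_zero_of_degree_le_three (by omega) (by omega), Multiset.eq_zero_iff_forall_notMem]
      intro r hr'
      rw [Polynomial.mem_roots'] at hr'
      refine hr ⟨r, ?_⟩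
      have := hr'.2
      simp [f] at this
      linear_combination this
    have hf0 : f ≠ 0 := fun h0 => by simp [h0] at hdeg
    have := Fact.mk hf
    set K := AdjoinRoot f
    set a := AdjoinRoot.root f
    let γ : K := AdjoinRoot.of f (tr A)
    have hev : ∀ (φ : F →+* K) (z : K), f.eval₂ φ z = z ^ 2 - φ (tr A) * z + 1 := by
      intro φ z
      simp only [f, Polynomial.eval₂_add, Polynomial.eval₂_mul, Polynomial.eval₂_C, Polynomial.eval₂_pow, Polynomial.eval₂_X]
      rw [map_one, map_neg]
      ring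
    have ha : a ^ 2 - γ * a + 1 = 0 := (hev _ _).symm.trans (AdjoinRoot.eval₂_root f)
    have haq : a ^ Fintype.card F ≠ a := by
      intro hfix
      have : a ∈ (AdjoinRoot.of f).range := by
        have : Fintype.card F = Fintype.card F := rfl
        let P : Polynomial K := Polynomial.X ^ Fintype.card F - Polynomial.X
        have hP : P ≠ 0 := FiniteField.X_pow_card_sub_X_ne_zero K Fintype.one_lt_card
        let S : Finset K := Finset.univ.image (AdjoinRoot.of f)
        have hS : S ⊆ P.roots.toFinset := by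
          intro z hz
          obtain ⟨c, -, rfl⟩ := Finset.mem_image.mp hz
          simp [P, Polynomial.mem_roots hP, ← map_pow, FiniteField.pow_card]
        have hcard : S.card = Fintype.card F := by
          rw [Finset.card_image_of_injective _ (RingHom.injective _), Finset.card_univ]
        have heq : S = P.roots.toFinset := Finset.eq_of_subset_of_card_le hS (by
          rw [hcard]
          exact (Multiset.toFinset_card_le _).trans ((Polynomial.card_roots' P).trans
            (FiniteField.X_pow_card_sub_X_natDegree_eq K Fintype.one_lt_card).le))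
        have hm : a ∈ S := by
          rw [heq, Multiset.mem_toFinset, Polynomial.mem_roots hP]
          simp [P, hfix]
        obtain ⟨c, -, hc⟩ := Finset.mem_image.mp hm
        exact ⟨c, hc⟩
      obtain ⟨c, hc⟩ := this
      refine hr ⟨c, (AdjoinRoot.of f).injective ?_⟩
      rw [map_add, map_sub, map_mul, map_pow, hc, map_one, map_zero]
      exact ha
    obtain ⟨p, hp⟩ := CharP.exists F
    have : Fact p.Prime := ⟨CharP.char_is_prime F p⟩
    have : CharP K p := charP_of_injective_ringHom (AdjoinRoot.of f).injective p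
    obtain ⟨n, -, hn⟩ := FiniteField.card F p
    have hb : (a ^ Fintype.card F) ^ 2 - γ * a ^ Fintype.card F + 1 = 0 := by
      have h1 := congrArg (fun z : K => (iterateFrobenius K p n) z) ha
      simp only [map_add, map_sub, map_mul, map_pow, map_one, map_zero, iterateFrobenius_def, ← hn] at h1
      rwa [show γ ^ Fintype.card F = γ by rw [← map_pow, FiniteField.pow_card]] at h1
    have hprod : a ^ (Fintype.card F + 1) = 1 := by
      have h1 : (a ^ Fintype.card F - a) * (a ^ Fintype.card F + a - γ) = 0 := by linear_combination hb - ha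
      have h2 := (mul_eq_zero.mp h1).resolve_left (sub_ne_zero.mpr haq)
      rw [pow_succ]
      linear_combination a * h2 - ha
    have hdvd : f ∣ Polynomial.X ^ (Fintype.card F + 1) - 1 := by
      rw [← AdjoinRoot.mk_eq_zero, map_sub, map_pow, AdjoinRoot.mk_X, map_one]
      exact sub_eq_zero.mpr hprod
    obtain ⟨g, hg⟩ := hdvd
    have h1 := congrArg (Polynomial.aeval (A : Matrix (Fin 2) (Fin 2) F)) hg
    have hfA : Polynomial.aeval (A : Matrix (Fin 2) (Fin 2) F) f = 0 := by
      simp [f, sq, sq_eq A, Algebra.smul_def]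
      abel
    rw [map_mul, hfA, zero_mul, map_sub, map_pow, Polynomial.aeval_X, map_one, sub_eq_zero] at h1
    exact Subtype.ext (by rw [Matrix.SpecialLinearGroup.coe_pow, Matrix.SpecialLinearGroup.coe_one]; exact h1)

omit [Fintype F] in
/-- A non-scalar element admits coordinates in which it is a companion matrix. -/
theorem exists_GL_companion {A : SL2} (h1 : A ≠ 1) (h2 : A ≠ -1) :
    ∃ P : GL (Fin 2) F, (A : Matrix (Fin 2) (Fin 2) F) * (P : Matrix (Fin 2) (Fin 2) F) =
      (P : Matrix (Fin 2) (Fin 2) F) * (comp (tr A) : Matrix (Fin 2) (Fin 2) F) := by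
  have key : ∀ v : Fin 2 → F, A 1 0 * v 0 ^ 2 + (A 1 1 - A 0 0) * v 0 * v 1 - A 0 1 * v 1 ^ 2 ≠ 0 →
      ∃ P : GL (Fin 2) F, (A : Matrix (Fin 2) (Fin 2) F) * (P : Matrix (Fin 2) (Fin 2) F) =
        (P : Matrix (Fin 2) (Fin 2) F) * (comp (tr A) : Matrix (Fin 2) (Fin 2) F) := by
    intro v hv
    refine ⟨Matrix.GeneralLinearGroup.mkOfDetNeZero _ ?_, companion_eq A v⟩
    rw [Matrix.det_fin_two]
    simp
    intro h0
    exact hv (by linear_combination h0)
  by_cases h10 : A 1 0 = 0
  · by_cases h01 : A 0 1 = 0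
    · by_cases hd : A 0 0 = A 1 1
      · rcases eq_scalar_of_entries h10 h01 hd with h | h
        · exact absurd h h1
        · exact absurd h h2
      · exact key ![1, 1] (by simpa [h10, h01, sub_eq_zero] using fun h => hd h.symm)
    · exact key ![0, 1] (by simpa using h01)
  · exact key ![1, 0] (by simpa using h10)

end Cfsg.Agent.Lib.SL2Trace
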