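import Cfsg.Agent.Lib.SL2Trace.Basic

/-!
Products of two conjugates in `PSL₂`.
-/

set_option autoImplicit false

namespace Cfsg.Agent.Lib.SL2Trace

open Matrix
open scoped MatrixGroups

variable {F : Type*} [Field F] [Fintype F]

local notation "SL2" => Matrix.SpecialLinearGroup (Fin 2) F
local notation "M2" => Matrix (Fin 2) (Fin 2) F

/-- The conic of factorisations of a companion matrix. -/
theorem exists_conic {α γ : F} (hdeg : γ ^ 2 = 4 → γ = 2 ∧ (2 * α ≠ 0 ∨ ∃ r : F, r ^ 2 - α * r + 1 = 0)) :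
    ∃ β u v : F, (β = α ∨ β = -α) ∧ u * (α - u) - v * (β + v - u * γ) = 1 := by
  by_cases hγ : γ ^ 2 = 4
  · obtain ⟨rfl, h⟩ := hdeg hγ
    rcases h with h | ⟨r, hr⟩
    · refine ⟨-α, 1 / (2 * α), 1 / (2 * α), Or.inr rfl, ?_⟩
      have h2 : (2 : F) ≠ 0 := left_ne_zero_of_mul h
      have hα : α ≠ 0 := right_ne_zero_of_mul h
      field_simp
      ring
    · exact ⟨α, r, 0, Or.inl rfl, by linear_combination -hr⟩
  · have hD : 4 - γ ^ 2 ≠ 0 := fun h => hγ (by linear_combination -h)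
    obtain ⟨u₀, hu₀⟩ : ∃ u₀ : F, u₀ = (2 * α - γ * α) / (4 - γ ^ 2) := ⟨_, rfl⟩
    obtain ⟨v₀, hv₀⟩ : ∃ v₀ : F, v₀ = (α * γ - 2 * α) / (4 - γ ^ 2) := ⟨_, rfl⟩
    have e1 : -2 * u₀ + γ * v₀ + α = 0 := by rw [hu₀, hv₀]; field_simp; ring
    have e2 : γ * u₀ - 2 * v₀ - α = 0 := by rw [hu₀, hv₀]; field_simp; ring
    obtain ⟨K, hK⟩ : ∃ K : F, K = 1 - (u₀ * (α - u₀) - v₀ * (α + v₀ - u₀ * γ)) := ⟨_, rfl⟩
    obtain ⟨x, y, hxy⟩ : ∃ x y : F, -x ^ 2 + γ * x * y - y ^ 2 = K := by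
      by_cases hK0 : K = 0
      · exact ⟨0, 0, by rw [hK0]; ring⟩
      · obtain ⟨x, y, hxy⟩ := exists_binary_eq_one (-1 / K) (γ / K) (1 / K) (by
          have e : (γ / K) ^ 2 + 4 * (-1 / K) * (1 / K) = -(4 - γ ^ 2) / K ^ 2 := by
            field_simp
            ring
          rw [e]
          exact div_ne_zero (neg_ne_zero.mpr hD) (pow_ne_zero 2 hK0))
        refine ⟨x, y, ?_⟩
        field_simp at hxy
        linear_combination hxy
    exact ⟨α, u₀ + x, v₀ + y, Or.inl rfl, by linear_combination hxy + hK + x * e1 + y * e2⟩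

/-- Every non-trivial element of `PSL₂` is a product of two conjugates of `toPSL A`. -/
theorem covering {A : SL2} (hA : tr A ^ 2 ≠ 4)
    (hu : 2 * tr A ≠ 0 ∨ ∃ r : F, r ^ 2 - tr A * r + 1 = 0)
    {g : Matrix.ProjectiveSpecialLinearGroup (Fin 2) F} (hg : g ≠ 1) :
    ∃ u v : Matrix.ProjectiveSpecialLinearGroup (Fin 2) F,
      g = (u * toPSL A * u⁻¹) * (v * toPSL A * v⁻¹) := by
  obtain ⟨G, hG, hdeg⟩ : ∃ G : SL2, toPSL G = g ∧ (tr G ^ 2 = 4 → tr G = 2) := by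
    obtain ⟨G, hG⟩ := toPSL_surjective g
    by_cases h : tr G ^ 2 = 4
    · have h' : (tr G - 2) * (tr G + 2) = 0 := by linear_combination h
      rcases mul_eq_zero.mp h' with h1 | h1
      · exact ⟨G, hG, fun _ => sub_eq_zero.mp h1⟩
      · exact ⟨-G, by rw [toPSL_neg, hG], fun _ => by rw [tr_neg]; linear_combination -h1⟩
    · exact ⟨G, hG, fun h' => absurd h' h⟩
  obtain ⟨P, hP⟩ := exists_GL_companion (A := G)
    (fun h => hg (by rw [← hG, h, map_one]))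
    (fun h => hg (by rw [← hG, h, toPSL_neg, map_one]))
  obtain ⟨β, u, v, hβ, huv⟩ := exists_conic (α := tr A) (γ := tr G) fun h => ⟨hdeg h, hu⟩
  let U₀ : M2 := !![u, v; β + v - u * tr G, tr A - u]
  let Pm : M2 := (P : M2)
  let Pi : M2 := ((P⁻¹ : GL (Fin 2) F) : M2)
  have hPi : Pi * Pm = 1 := P.inv_mul
  have hPi' : Pm * Pi = 1 := P.mul_inv
  have hU₀ : U₀.det = 1 := by
    simp [U₀, Matrix.det_fin_two]
    linear_combination huv
  let U : SL2 := ⟨Pm * U₀ * Pi, by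
    rw [Matrix.det_mul, Matrix.det_mul, hU₀, mul_one, ← Matrix.det_mul, hPi', Matrix.det_one]⟩
  have htU : tr U = tr A := by
    show (Pm * U₀ * Pi).trace = tr A
    rw [Matrix.trace_mul_comm, ← mul_assoc, hPi, one_mul]
    simp [U₀, Matrix.trace_fin_two]
  have hGc : (G : M2) = Pm * (comp (tr G) : M2) * Pi := by rw [← hP, mul_assoc, hPi', mul_one]
  have htV : tr (U⁻¹ * G) = β := by
    show (((U⁻¹ : SL2) : M2) * (G : M2)).trace = β
    rw [Matrix.SpecialLinearGroup.coe_inv, hGc]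
    show ((Pm * U₀ * Pi).adjugate * _).trace = β
    have hadj : (Pm * U₀ * Pi).adjugate = Pm * U₀.adjugate * Pi := by
      have h1 : (Pm * U₀.adjugate * Pi) * (Pm * U₀ * Pi) = 1 := by
        simp only [mul_assoc]
        rw [← mul_assoc Pi Pm, hPi, one_mul, ← mul_assoc U₀.adjugate, Matrix.adjugate_mul, hU₀,
          one_smul, one_mul, hPi']
      have h2 : (Pm * U₀ * Pi) * (Pm * U₀ * Pi).adjugate = 1 := by
        rw [Matrix.mul_adjugate, U.2, one_smul]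
      exact (left_inv_eq_right_inv h1 h2).symm
    rw [hadj, show Pm * U₀.adjugate * Pi * (Pm * (comp (tr G) : M2) * Pi) =
      Pm * (U₀.adjugate * (comp (tr G) : M2)) * Pi by
        simp only [mul_assoc]; rw [← mul_assoc Pi Pm, hPi, one_mul],
      Matrix.trace_mul_comm, ← mul_assoc, hPi, one_mul]
    simp [U₀, comp, Matrix.trace_fin_two, Matrix.adjugate_fin_two]
  obtain ⟨c, hc⟩ := isConj_iff.mp (isConj_toPSL_of_tr (Or.inl htU) hA)
  obtain ⟨d, hd⟩ := isConj_iff.mp (isConj_toPSL_of_tr (B := U⁻¹ * G) (htV ▸ hβ) hA)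
  refine ⟨c, d, ?_⟩
  rw [hc, hd, ← map_mul, mul_inv_cancel_left, hG]

end Cfsg.Agent.Lib.SL2Trace
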